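import Cfsg.Agent.L.BSW1
import Cfsg.Agent.L.SL2Model

/-! Groups in which the centralizer of every involution has exponent two: identification with
`SL₂(2ⁿ)`. -/

set_option autoImplicit false

namespace Cfsg.Agent.L

open Cfsg Subgroup OnePoint

universe u

/-- A commutative group of additive automorphisms transitive on nonzero vectors gives a field. -/
theorem exists_field_of_transitive {V : Type u} [AddCommGroup V] {H : Type*} [Group H]
    (ρ : H → V ≃+ V) (hone : ∀ v, ρ 1 v = v) (hmul : ∀ a b v, ρ (a * b) v = ρ a (ρ b v))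
    (hcomm : ∀ a b : H, a * b = b * a) (e : V) (he : e ≠ 0)
    (hreg : ∀ v, v ≠ 0 → ∃ h, ρ h e = v) :
    ∃ (F : Type u) (_ : Field F) (φ : V ≃+ F), φ e = 1 ∧ ∀ h v, φ (ρ h v) = φ (ρ h e) * φ v := by
  classical
  let σ : V → V → V := fun a b => if h : a = 0 then 0 else ρ (hreg a h).choose b
  have hsw : ∀ h k : H, ∀ v, ρ h (ρ k v) = ρ k (ρ h v) := fun h k v => by
    rw [← hmul, hcomm, hmul]
  have hne : ∀ h, ρ h e ≠ 0 := fun h => by simpa using he
  have hσ : ∀ h v, σ (ρ h e) v = ρ h v := by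
    intro h v
    simp only [σ, dif_neg (hne h)]
    by_cases hv : v = 0
    · simp [hv]
    · obtain ⟨k, rfl⟩ := hreg v hv
      rw [hsw, (hreg _ (hne h)).choose_spec, hsw]
  have hσ0 : ∀ v, σ 0 v = 0 := fun v => by simp [σ]
  have hσ0' : ∀ v, σ v 0 = 0 := fun v => by
    by_cases hv : v = 0
    · rw [hv, hσ0]
    · obtain ⟨k, rfl⟩ := hreg v hv
      rw [hσ, map_zero]
  let _ : Mul V := ⟨σ⟩
  let _ : One V := ⟨e⟩
  let _ : Inv V := ⟨fun a => if h : a = 0 then 0 else ρ (hreg a h).choose⁻¹ e⟩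
  have hc : ∀ a b : V, σ a b = σ b a := by
    intro a b
    by_cases ha : a = 0
    · rw [ha, hσ0, hσ0']
    by_cases hb : b = 0
    · rw [hb, hσ0, hσ0']
    obtain ⟨h, rfl⟩ := hreg a ha
    obtain ⟨k, rfl⟩ := hreg b hb
    rw [hσ, hσ, hsw]
  let inst : Field V := Field.ofMinimalAxioms V add_assoc zero_add neg_add_cancel
    (fun a b c => by
      change σ (σ a b) c = σ a (σ b c)
      by_cases ha : a = 0
      · rw [ha, hσ0, hσ0, hσ0]
      by_cases hb : b = 0
      · rw [hb, hσ0', hσ0, hσ0']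
      obtain ⟨h, rfl⟩ := hreg a ha
      obtain ⟨k, rfl⟩ := hreg b hb
      rw [hσ, hσ, hσ, ← hmul, hσ, hmul])
    hc
    (fun a => by
      change σ e a = a
      have := hσ 1 a
      rwa [hone, hone] at this)
    (fun a ha => by
      change σ a (if h : a = 0 then 0 else ρ (hreg a h).choose⁻¹ e) = e
      rw [dif_neg ha]
      simp only [σ, dif_neg ha]
      rw [← hmul, mul_inv_cancel, hone])
    (by
      change (if h : (0 : V) = 0 then 0 else ρ (hreg 0 h).choose⁻¹ e) = 0
      rw [dif_pos rfl])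
    (fun a b c => by
      change σ a (b + c) = σ a b + σ a c
      by_cases ha : a = 0
      · rw [ha, hσ0, hσ0, hσ0, add_zero]
      obtain ⟨h, rfl⟩ := hreg a ha
      rw [hσ, hσ, hσ, map_add])
    ⟨e, 0, he⟩
  exact ⟨V, inst, @AddEquiv.mk V V _ inst.toAdd (Equiv.refl V) (fun _ _ => rfl), rfl,
    fun h v => (hσ h v).symm⟩

variable {G : Type u} [Group G]

namespace EAC

/-- An involution normalizing the centralizer of an involution lies in it. -/
theorem mem_of_mem_normalizer (hG : EAC G) {t w : G} (ht1 : t ≠ 1) (ht : t * t = 1)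
    (hw : w * w = 1) (hn : w ∈ normalizer ((centralizer ({t} : Set G) : Subgroup G) : Set G)) :
    w ∈ centralizer ({t} : Set G) := by
  have htt : t ∈ centralizer ({t} : Set G) := mem_cent_iff.2 (Commute.refl t)
  have h1 : w * t * w⁻¹ ∈ centralizer ({t} : Set G) := (mem_normalizer_iff.1 hn t).1 htt
  rw [inv_eq_self_of_mul_self hw] at h1
  by_cases h2 : t * (w * t * w) = 1
  · rw [mem_centralizer_singleton_iff]
    have : w * t * w = t := by
      rw [← inv_eq_self_of_mul_self ht]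
      nth_rewrite 1 [inv_eq_self_of_mul_self ht]
      exact eq_inv_of_mul_eq_one_right h2
    calc w * t = w * t * (w * w) := by rw [hw, mul_one]
      _ = t * w := by rw [← mul_assoc, this]
  · rw [← hG.cent_eq ht1 ht (mul_mem htt h1) h2, mem_centralizer_singleton_iff]
    have h3 := mem_centralizer_singleton_iff.1 h1
    calc w * (t * (w * t * w)) = (w * t * w * t) * w := by group
      _ = t * (w * t * w) * w := by rw [h3]

theorem mem_normalizer_of_conj (hG : EAC G) {t g : G} (ht1 : t ≠ 1) (ht : t * t = 1)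
    (h : g * t * g⁻¹ ∈ centralizer ({t} : Set G)) :
    g ∈ normalizer ((centralizer ({t} : Set G) : Subgroup G) : Set G) := by
  rw [← H1.map_conj_eq_self_iff, ← centralizer_singleton_conj,
    hG.cent_eq ht1 ht h (by simpa using ht1)]

/-- The two-point stabilizer: elements `m s` conjugating `t` to `s`, inverted by `v`. -/
theorem exists_torus [Finite G] (hG : EAC G) {t u : G} (ht1 : t ≠ 1) (ht : t * t = 1)
    (hu : u * u = 1) (htu : ¬ Commute t u) :
    ∃ v : G, v ≠ 1 ∧ v * v = 1 ∧ v * t * v = u ∧ ∃ H : Subgroup G,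
      H ≤ normalizer ((centralizer ({t} : Set G) : Subgroup G) : Set G) ∧
      (∀ h ∈ H, v * h * v = h⁻¹) ∧ (∀ h ∈ H, h ∈ centralizer ({t} : Set G) → h = 1) ∧
      (∀ s ∈ centralizer ({t} : Set G), s ≠ 1 → ∃ h ∈ H, h * t * h⁻¹ = s) ∧
      (∀ s ∈ centralizer ({t} : Set G),
        v * s * v ∈ normalizer ((centralizer ({t} : Set G) : Subgroup G) : Set G) → s = 1) := by
  obtain ⟨v, hv1, hv, hvt⟩ := hG.exists_swap ht hu htu
  have hvi := inv_eq_self_of_mul_self hv
  set P := centralizer ({t} : Set G) with hP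
  set M := normalizer (P : Set G) with hM
  have htP : t ∈ P := mem_cent_iff.2 (Commute.refl t)
  have hdis : ∀ s ∈ P, v * s * v ∈ M → s = 1 := by
    intro s hs hsM
    by_contra hs1
    have hss := hG.sq_of_mem ht1 ht s hs
    have h1 : v * s * v ∈ P := hG.mem_of_mem_normalizer ht1 ht (by
      calc v * s * v * (v * s * v) = v * s * (v * v) * s * v := by group
        _ = 1 := by rw [hv, mul_one, mul_assoc v, hss, mul_one, hv]) hsM
    have h2 : v * s * v ≠ 1 := by
      intro h0; apply hs1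
      calc s = (v * v) * s * (v * v) := by rw [hv]; simp
        _ = v * (v * s * v) * v := by group
        _ = 1 := by rw [h0, mul_one, hv]
    apply htu
    apply mem_cent_iff.1
    rw [← hP, hP, ← hG.cent_eq ht1 ht h1 h2, ← hvt, mem_cent_iff]
    have := (mem_cent_iff.1 hs).symm.conj v
    rwa [hvi] at this
  let H : Subgroup G := M ⊓ M.comap (MulAut.conj v).toMonoidHom
  have hH : ∀ h, h ∈ H ↔ h ∈ M ∧ v * h * v ∈ M := fun h => by
    simp [H, mem_inf, mem_comap, hvi]
  have hex : ∀ s ∈ P, s ≠ 1 → ∃ h ∈ H, h * t * h⁻¹ = s ∧ v * h * v = h⁻¹ := by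
    intro s hs hs1
    have hss := hG.sq_of_mem ht1 ht s hs
    have hsu : ¬ Commute s u := fun h0 => htu (by
      have := mem_cent_iff.2 h0
      rw [hG.cent_eq ht1 ht hs hs1] at this
      exact mem_cent_iff.1 this)
    obtain ⟨w, -, hw, hws⟩ := hG.exists_swap hss hu hsu
    have hwi := inv_eq_self_of_mul_self hw
    have e1 : w * v * t * (w * v)⁻¹ = s := by
      rw [mul_inv_rev, hvi, hwi]
      calc w * v * t * (v * w) = w * (v * t * v) * w := by group
        _ = w * (w * s * w) * w := by rw [hvt, hws]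
        _ = (w * w) * s * (w * w) := by group
        _ = s := by rw [hw]; simp
    have e2 : v * (w * v) * v = (w * v)⁻¹ := by
      rw [mul_inv_rev, hvi, hwi, mul_assoc, mul_assoc, hv, mul_one]
    have e3 : w * v ∈ M := hG.mem_normalizer_of_conj ht1 ht (e1 ▸ hs)
    exact ⟨w * v, (hH _).2 ⟨e3, e2 ▸ inv_mem e3⟩, e1, e2⟩
  have hHP : ∀ h ∈ H, h ∈ P → h = 1 := fun h hh hp => hdis h hp ((hH h).1 hh).2
  refine ⟨v, hv1, hv, hvt, H, inf_le_left, ?_, hHP, fun s hs hs1 => ?_, hdis⟩
  · intro h hh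
    obtain ⟨k, hk, hk1, hk2⟩ := hex (h * t * h⁻¹) ((mem_normalizer_iff.1 ((hH h).1 hh).1 t).1 htP)
      (by simpa using ht1)
    have : k⁻¹ * h = 1 := hHP _ (mul_mem (inv_mem hk) hh) (by
      rw [mem_centralizer_singleton_iff]
      calc k⁻¹ * h * t = k⁻¹ * (h * t * h⁻¹) * h := by group
        _ = t * (k⁻¹ * h) := by rw [← hk1]; group)
    rw [inv_mul_eq_one] at this
    rw [← this]; exact hk2
  · obtain ⟨h, hh, h1, -⟩ := hex s hs hs1
    exact ⟨h, hh, h1⟩

/-- **Brauer–Suzuki–Wall, even case.** -/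
theorem exists_field [Finite G] (hG : EAC G) {t u : G} (ht1 : t ≠ 1) (ht : t * t = 1)
    (hu : u * u = 1) (htu : ¬ Commute t u) (hq : 2 < Nat.card (centralizer ({t} : Set G))) :
    ∃ (F : Type u) (_ : Field F) (_ : Finite F) (_ : CharP F 2),
      Nat.card F = Nat.card (centralizer ({t} : Set G)) ∧
      Nonempty (G ≃* Matrix.SpecialLinearGroup (Fin 2) F) := by
  classical
  obtain ⟨v, hv1, hv, hvt, H, hHM, hinv, hHP, htr, hdis⟩ := hG.exists_torus ht1 ht hu htu
  have hvi := inv_eq_self_of_mul_self hv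
  set P := centralizer ({t} : Set G) with hP
  set M := normalizer (P : Set G) with hM
  have htP : t ∈ P := mem_cent_iff.2 (Commute.refl t)
  have hsq := hG.sq_of_mem ht1 ht
  have hMdec : ∀ m ∈ M, ∃ h ∈ H, ∃ y ∈ P, m = h * y := by
    intro m hm
    obtain ⟨h, hh, h1⟩ := htr (m * t * m⁻¹) ((mem_normalizer_iff.1 hm t).1 htP) (by simpa using ht1)
    refine ⟨h, hh, h⁻¹ * m, ?_, by group⟩
    rw [mem_centralizer_singleton_iff]
    calc h⁻¹ * m * t = h⁻¹ * (m * t * m⁻¹) * m := by group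
      _ = t * (h⁻¹ * m) := by rw [← h1]; group
  -- orders
  have hcH : Nat.card H = Nat.card P - 1 := by
    rw [← SetLike.coe_sort_coe, ← SetLike.coe_sort_coe P, Nat.card_coe_set_eq, Nat.card_coe_set_eq,
      ← Set.ncard_diff_singleton_of_mem (SetLike.mem_coe.2 (one_mem _))]
    apply Set.ncard_congr (fun h _ => h * t * h⁻¹)
    · intro h hh
      exact ⟨(mem_normalizer_iff.1 (hHM hh) t).1 htP, by simpa using ht1⟩
    · intro h k hh hk e
      have : k⁻¹ * h = 1 := hHP _ (mul_mem (inv_mem hk) hh) (by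
        rw [mem_centralizer_singleton_iff]
        calc k⁻¹ * h * t = k⁻¹ * (h * t * h⁻¹) * h := by group
          _ = t * (k⁻¹ * h) := by rw [e]; group)
      rw [inv_mul_eq_one] at this
      exact this.symm
    · intro s hs
      obtain ⟨h, hh, e⟩ := htr s hs.1 hs.2
      exact ⟨h, hh, e⟩
  have hcM : Nat.card M = Nat.card P * (Nat.card P - 1) := by
    have e : M = H ⊔ P := by
      apply le_antisymm
      · intro m hm
        obtain ⟨h, hh, y, hy, rfl⟩ := hMdec m hm
        exact mul_mem (mem_sup_left hh) (mem_sup_right hy)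
      · exact sup_le hHM le_normalizer
    rw [e, H1.card_sup_of_inf_eq_bot hHM (eq_bot_iff.2 fun x hx => hHP x hx.1 hx.2), hcH, mul_comm]
  obtain ⟨h0, hh0, hh01⟩ : ∃ h ∈ H, h ≠ 1 := by
    have : H ≠ ⊥ := (one_lt_card_iff_ne_bot _).1 (by omega)
    obtain ⟨⟨h, hh⟩, h1⟩ := ne_bot_iff_exists_ne_one.1 this
    exact ⟨h, hh, fun h2 => h1 (Subtype.ext h2)⟩
  have hHcomm : ∀ a ∈ H, ∀ b ∈ H, a * b = b * a := fun a ha b hb =>
    commute_of_inverts hv hinv ha hb
  have hcG : Nat.card G = Nat.card P * (Nat.card P - 1) * (Nat.card P + 1) := by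
    refine hG.card_eq ht1 ht hu htu rfl hq (v := v) (h := h0)
      ⟨fun h2 => hh01 (hHP _ hh0 (hG.mem_of_mem_normalizer ht1 ht h2 (hHM hh0))), hv1, hv,
        hinv _ hh0⟩ ?_
    rw [← hcH]
    exact card_dvd_of_le fun a ha => mem_cent_iff.2 (hHcomm _ hh0 _ ha)
  have hidx : Nat.card (G ⧸ M) = Nat.card P + 1 := by
    have := M.card_mul_index
    rw [hcM, hcG] at this
    exact Nat.eq_of_mul_eq_mul_left (Nat.mul_pos (by omega) (by omega)) this
  -- the field
  let _ : CommGroup P := { (inferInstance : Group P) with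
    mul_comm := fun a b => Subtype.ext (commute_of_sq_eq_one hsq a.2 b.2) }
  let ρ : H → Additive P ≃+ Additive P :=
    fun h => MulEquiv.toAdditive (P.normalizerMonoidHom ⟨h, hHM h.2⟩)
  have hρ : ∀ (h : H) (x : P), ρ h (Additive.ofMul x) =
      Additive.ofMul ⟨h * x * (h : G)⁻¹, (mem_normalizer_iff.1 (hHM h.2) x).1 x.2⟩ := by
    intro h x; rfl
  have hρ1 : ∀ x, ρ 1 x = x := fun x => by
    rw [← ofMul_toMul x, hρ]; simp
  have hρm : ∀ a b x, ρ (a * b) x = ρ a (ρ b x) := fun a b x => by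
    rw [← ofMul_toMul x, hρ, hρ, hρ]; simp [mul_assoc]
  obtain ⟨F, _, φ, hφ1, hφ⟩ := exists_field_of_transitive ρ hρ1 hρm
    (fun a b => Subtype.ext (hHcomm _ a.2 _ b.2)) (Additive.ofMul ⟨t, htP⟩)
    (fun h0 => ht1 (congrArg Subtype.val (ofMul_eq_zero.1 h0))) (by
      intro x hx
      obtain ⟨h, hh, e⟩ := htr _ x.toMul.2 fun h0 => hx (toMul_eq_one.1 (Subtype.ext h0))
      exact ⟨⟨h, hh⟩, by rw [hρ]; exact congrArg Additive.ofMul (Subtype.ext e)⟩)
  have hF : Finite F := Finite.of_equiv _ φ.toEquiv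
  have hcF : Nat.card F = Nat.card P := (Nat.card_congr φ.toEquiv).symm
  have hchar : CharP F 2 := by
    apply CharTwo.of_one_ne_zero_of_two_eq_zero one_ne_zero
    rw [← one_add_one_eq_two, ← hφ1, ← map_add, ← ofMul_mul,
      show (⟨t, htP⟩ * ⟨t, htP⟩ : P) = 1 from Subtype.ext ht, ofMul_one, map_zero]
  refine ⟨F, inferInstance, hF, hchar, hcF, ?_⟩
  -- the action on the projective line
  let el : F → G := fun x => ((φ.symm x).toMul : P)
  have hel : ∀ y : P, el (φ (Additive.ofMul y)) = y := fun y => by simp [el]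
  have helP : ∀ x, el x ∈ P := fun x => (φ.symm x).toMul.2
  let β : OnePoint F → G ⧸ M := fun z => z.elim ((1 : G) : G ⧸ M) fun x => ((el x * v : G) : G ⧸ M)
  have hvM : v ∉ M := fun h0 => by
    apply ht1
    exact hdis t htP (mul_mem (mul_mem h0 (le_normalizer htP)) h0)
  have hβinj : Function.Injective β := by
    have h1 : ∀ x : F, β ∞ ≠ β x := by
      intro x h0
      simp only [β, elim_infty, elim_some, QuotientGroup.eq, inv_one, one_mul] at h0
      exact hvM (by simpa using mul_mem (inv_mem (le_normalizer (helP x))) h0)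
    intro a b hab
    induction a using OnePoint.rec <;> induction b using OnePoint.rec
    · rfl
    · exact (h1 _ hab).elim
    · exact (h1 _ hab.symm).elim
    · rename_i x y
      simp only [β, elim_some, QuotientGroup.eq] at hab
      have := hdis ((el x)⁻¹ * el y) (mul_mem (inv_mem (helP x)) (helP y)) (by
        rw [mul_inv_rev, hvi] at hab; simpa [mul_assoc] using hab)
      rw [inv_mul_eq_one] at this
      have : φ.symm x = φ.symm y := Additive.toMul.injective (Subtype.ext this)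
      rw [φ.symm.injective this]
  have hOP : Finite (OnePoint F) := inferInstanceAs (Finite (Option F))
  have hβ : Function.Bijective β := by
    rw [Nat.bijective_iff_injective_and_card]
    refine ⟨hβinj, ?_⟩
    rw [hidx, ← hcF]
    exact Finite.card_option
  let B : OnePoint F ≃ G ⧸ M := Equiv.ofBijective β hβ
  let ψ : G →* Equiv.Perm (OnePoint F) :=
    (Equiv.permCongrHom B.symm).toMonoidHom.comp (MulAction.toPermHom G (G ⧸ M))
  have hψ : ∀ g a b, ψ g a = b ↔ g • β a = β b := by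
    intro g a b
    change B.symm (g • B a) = b ↔ _
    rw [Equiv.symm_apply_eq]; rfl
  have hψM : ∀ m ∈ M, ψ m ∞ = ∞ := by
    intro m hm
    rw [hψ]
    simp only [β, elim_infty, MulAction.Quotient.smul_mk, QuotientGroup.eq]
    simpa using hm
  have hψP : ∀ (y : P) (x : F), ψ y x = ((1 * x + φ (Additive.ofMul y) : F) : OnePoint F) := by
    intro y x
    obtain ⟨z, rfl⟩ := φ.surjective x
    rw [hψ, one_mul, ← map_add, add_comm]
    simp only [β, elim_some, MulAction.Quotient.smul_mk, smul_eq_mul]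
    rw [← ofMul_toMul z, ← ofMul_mul, hel, hel, coe_mul, mul_assoc]
  have hψH : ∀ (h : H) (x : F),
      ψ h x = ((φ (ρ h (Additive.ofMul ⟨t, htP⟩)) * x + 0 : F) : OnePoint F) := by
    intro h x
    obtain ⟨z, rfl⟩ := φ.surjective x
    rw [hψ, add_zero, ← hφ, ← ofMul_toMul z, hρ]
    simp only [β, elim_some, MulAction.Quotient.smul_mk, smul_eq_mul, hel, QuotientGroup.eq]
    have e : ((h : G) * ((z.toMul : G) * v))⁻¹ * ((h : G) * (z.toMul : G) * (h : G)⁻¹ * v) =
        v⁻¹ * (h : G)⁻¹ * v := by group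
    rw [e, hvi, hinv _ (inv_mem h.2)]
    exact inv_mem (inv_mem (hHM h.2))
  have hχ : ∀ h : H, φ (ρ h (Additive.ofMul ⟨t, htP⟩)) ≠ 0 := fun h => by
    simpa using ht1
  have hψv1 : ψ v ∞ = ((0 : F) : OnePoint F) := by
    rw [hψ]
    simp [β, el]
  have hψv2 : ψ v ((0 : F) : OnePoint F) = ∞ := by
    rw [← hψv1, ← Equiv.Perm.mul_apply, ← map_mul, hv, map_one, Equiv.Perm.one_apply]
  obtain ⟨c, hc, hc0⟩ : ∃ c : F, ψ v ((1 : F) : OnePoint F) = c ∧ c ≠ 0 := by
    generalize hz : ψ v ((1 : F) : OnePoint F) = z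
    induction z using OnePoint.rec
    · rw [← hψv2] at hz
      exact absurd (coe_injective ((ψ v).injective hz)) one_ne_zero
    · refine ⟨_, rfl, ?_⟩
      rintro rfl
      rw [← hψv1] at hz
      exact coe_ne_infty _ ((ψ v).injective hz)
  have hψv3 : ∀ x : F, x ≠ 0 → ψ v x = ((c / x : F) : OnePoint F) := by
    intro x hx
    obtain ⟨z, rfl⟩ := φ.surjective x
    obtain ⟨h, hh, e⟩ := htr _ z.toMul.2 fun h0 => hx (by
      rw [toMul_eq_one.1 (Subtype.ext h0), map_zero])
    have e1 : φ z = φ (ρ ⟨h, hh⟩ (Additive.ofMul ⟨t, htP⟩)) := by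
      rw [hρ]; exact congrArg φ (congrArg Additive.ofMul (Subtype.ext e.symm))
    have e2 : ((φ z : F) : OnePoint F) = ψ h ((1 : F) : OnePoint F) := by
      rw [hψH ⟨h, hh⟩, e1]; simp
    have e3 : v * h = h⁻¹ * v := by rw [← hinv h hh, mul_assoc, hv, mul_one]
    have e4 : φ (ρ ⟨h, hh⟩⁻¹ (Additive.ofMul ⟨t, htP⟩)) * φ z = 1 := by
      rw [← hφ, φ.injective e1, ← hρm, inv_mul_cancel, hρ1, hφ1]
    rw [e2, ← Equiv.Perm.mul_apply, ← map_mul, e3, map_mul, Equiv.Perm.mul_apply, hc]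
    have := hψH ⟨h, hh⟩⁻¹ c
    simp only [coe_inv] at this
    rw [this, add_zero, eq_inv_of_mul_eq_one_left e4, div_eq_inv_mul]
  let R : Subgroup G := (sl2Perm F).range.comap ψ
  have hRP : P ≤ R := by
    intro y hy
    obtain ⟨g, h1, h2⟩ := exists_sl2_affine (1 : F) (φ (Additive.ofMul ⟨y, hy⟩)) one_ne_zero
    refine ⟨g, Equiv.ext fun z => ?_⟩
    induction z using OnePoint.rec
    · rw [h1, hψM y (le_normalizer hy)]
    · rw [h2, hψP ⟨y, hy⟩]
  have hRH : H ≤ R := by
    intro h hh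
    obtain ⟨g, h1, h2⟩ := exists_sl2_affine _ (0 : F) (hχ ⟨h, hh⟩)
    refine ⟨g, Equiv.ext fun z => ?_⟩
    induction z using OnePoint.rec
    · rw [h1, hψM h (hHM hh)]
    · rw [h2, hψH ⟨h, hh⟩]
  have hRv : v ∈ R := by
    obtain ⟨g, h1, h2, h3⟩ := exists_sl2_inv c hc0
    refine ⟨g, Equiv.ext fun z => ?_⟩
    induction z using OnePoint.rec
    · rw [h1, hψv1]
    · rename_i x
      by_cases hx : x = 0
      · rw [hx, h2, hψv2]
      · rw [h3 x hx, hψv3 x hx]
  have hRM : M ≤ R := by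
    intro m hm
    obtain ⟨h, hh, y, hy, rfl⟩ := hMdec m hm
    exact mul_mem (hRH hh) (hRP hy)
  refine nonempty_mulEquiv_SL2 ψ ?_ (fun g => ?_) (by rw [hcF, hcG])
  · rw [injective_iff_map_eq_one]
    intro g hg
    have h1 : g ∈ M := by
      have := (hψ g ∞ ∞).1 (by rw [hg]; rfl)
      simp only [β, elim_infty, MulAction.Quotient.smul_mk, QuotientGroup.eq] at this
      simpa using this
    obtain ⟨h, hh, y, hy, rfl⟩ := hMdec g h1
    have h2 : ∀ x : F, φ (ρ ⟨h, hh⟩ (Additive.ofMul ⟨t, htP⟩)) *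
        (x + φ (Additive.ofMul ⟨y, hy⟩)) = x := by
      intro x
      have : ψ (h * y) x = x := by rw [hg]; rfl
      rw [map_mul, Equiv.Perm.mul_apply, hψP ⟨y, hy⟩, hψH ⟨h, hh⟩, one_mul, add_zero] at this
      exact coe_injective this
    have h3 : φ (Additive.ofMul ⟨y, hy⟩) = 0 := by
      have := h2 0
      rw [zero_add, mul_eq_zero] at this
      exact this.resolve_left (hχ _)
    have h4 := h2 1
    rw [h3, add_zero, mul_one, ← hφ1, hρ] at h4
    have h5 : h * t * h⁻¹ = t := congrArg Subtype.val (Additive.ofMul.injective (φ.injective h4))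
    have h6 : y = 1 := congrArg Subtype.val (ofMul_eq_zero.1 ((map_eq_zero_iff φ φ.injective).1 h3))
    rw [h6, mul_one]
    exact hHP h hh (mem_centralizer_singleton_iff.2 (mul_inv_eq_iff_eq_mul.1 h5))
  · change g ∈ R
    obtain ⟨z, hz⟩ := hβ.2 (g : G ⧸ M)
    induction z using OnePoint.rec
    · simp only [β, elim_infty, QuotientGroup.eq] at hz
      exact hRM (by simpa using hz)
    · rename_i x
      simp only [β, elim_some, QuotientGroup.eq] at hz
      have := mul_mem (mul_mem (hRP (helP x)) hRv) (hRM hz)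
      rwa [mul_inv_cancel_left] at this

/-- **Brauer–Suzuki–Wall, even case**, with `GaloisField`. -/
theorem exists_galoisField [Finite G] (hG : EAC G) {t u : G} (ht1 : t ≠ 1) (ht : t * t = 1)
    (hu : u * u = 1) (htu : ¬ Commute t u) (hq : 2 < Nat.card (centralizer ({t} : Set G))) :
    ∃ n : ℕ, 2 ≤ n ∧ Nat.card (centralizer ({t} : Set G)) = 2 ^ n ∧
      Nat.card G = 2 ^ n * (2 ^ n - 1) * (2 ^ n + 1) ∧
      Nonempty (G ≃* Matrix.SpecialLinearGroup (Fin 2) (GaloisField 2 n)) ∧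
      Nonempty (G ≃* Matrix.ProjectiveSpecialLinearGroup (Fin 2) (GaloisField 2 n)) := by
  classical
  obtain ⟨F, _, _, _, h1, ⟨e⟩⟩ := hG.exists_field ht1 ht hu htu hq
  have h2 : IsPGroup 2 (centralizer ({t} : Set G)) := fun y =>
    ⟨1, Subtype.ext (by simpa [sq] using hG.sq_of_mem ht1 ht y y.2)⟩
  have : Fact (Nat.Prime 2) := ⟨Nat.prime_two⟩
  obtain ⟨n, hn⟩ := h2.exists_card_eq
  obtain ⟨e'⟩ := nonempty_SL2_equiv_galoisField (h1.trans hn)
  refine ⟨n, ?_, hn, ?_, ⟨e.trans e'⟩, ⟨(e.trans e').trans (psl2Equiv _).symm⟩⟩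
  · by_contra hlt
    have : n = 0 ∨ n = 1 := by omega
    rcases this with rfl | rfl <;> omega
  · rw [Nat.card_congr e.toEquiv, card_SL2, h1, hn]

/-- The version for nonsolvable groups of even order. -/
theorem exists_galoisField_of_not_isSolvable [Finite G] (hG : EAC G) {t : G} (ht1 : t ≠ 1)
    (ht : t * t = 1) (hn : ¬ (centralizer ({t} : Set G)).Normal)
    (hq : Nat.card (centralizer ({t} : Set G)) ≠ 2) :
    ∃ n : ℕ, 2 ≤ n ∧ Nat.card (centralizer ({t} : Set G)) = 2 ^ n ∧
      Nat.card G = 2 ^ n * (2 ^ n - 1) * (2 ^ n + 1) ∧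
      Nonempty (G ≃* Matrix.SpecialLinearGroup (Fin 2) (GaloisField 2 n)) ∧
      Nonempty (G ≃* Matrix.ProjectiveSpecialLinearGroup (Fin 2) (GaloisField 2 n)) := by
  obtain ⟨u, hu, htu⟩ : ∃ u : G, u * u = 1 ∧ ¬ Commute t u := by
    by_contra h
    push Not at h
    refine hn ⟨fun x hx g => mem_cent_iff.2 (h _ ?_)⟩
    calc g * x * g⁻¹ * (g * x * g⁻¹) = g * (x * x) * g⁻¹ := by group
      _ = 1 := by rw [hG.sq_of_mem ht1 ht x hx]; simp
  refine hG.exists_galoisField ht1 ht hu htu ?_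
  have : 1 < Nat.card (centralizer ({t} : Set G)) := (one_lt_card_iff_ne_bot _).2 fun h0 =>
    ht1 (by have := mem_cent_iff.2 (Commute.refl t); rwa [h0, mem_bot] at this)
  omega

end EAC

end Cfsg.Agent.L
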