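import Cfsg.Agent.L.Invol
import Cfsg.Agent.H1.Basic

/-! Groups in which the centralizer of every involution has exponent two: counting. -/

set_option autoImplicit false

namespace Cfsg.Agent.L

open Cfsg Subgroup

variable {G : Type*} [Group G]

/-- The centralizer of every involution has exponent two. -/
def EAC (G : Type*) [Group G] : Prop :=
  ∀ t x : G, t ≠ 1 → t * t = 1 → Commute t x → x * x = 1

theorem mem_cent_iff {x y : G} : y ∈ centralizer ({x} : Set G) ↔ Commute x y := by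
  rw [mem_centralizer_singleton_iff]; exact ⟨fun h => h.symm, fun h => h.symm⟩

namespace EAC

theorem sq_of_mem (hG : EAC G) {t : G} (ht1 : t ≠ 1) (ht : t * t = 1) :
    ∀ x ∈ centralizer ({t} : Set G), x * x = 1 :=
  fun x hx => hG t x ht1 ht (mem_cent_iff.1 hx)

theorem cent_eq (hG : EAC G) {t s : G} (ht1 : t ≠ 1) (ht : t * t = 1)
    (hs : s ∈ centralizer ({t} : Set G)) (hs1 : s ≠ 1) :
    centralizer ({s} : Set G) = centralizer ({t} : Set G) := by
  apply le_antisymm
  · intro x hx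
    have h2 := hG.sq_of_mem hs1 (hG.sq_of_mem ht1 ht s hs)
    exact mem_cent_iff.2 (commute_of_sq_eq_one h2 (mem_cent_iff.2 (mem_cent_iff.1 hs).symm) hx)
  · intro x hx
    exact mem_cent_iff.2 (commute_of_sq_eq_one (hG.sq_of_mem ht1 ht) hs hx)

theorem odd_of_not_commute [Finite G] (hG : EAC G) {t u : G} (ht : t * t = 1) (hu : u * u = 1)
    (h : ¬ Commute t u) : Odd (orderOf (t * u)) := by
  by_contra hn
  obtain ⟨k, h1, h2, h3, h4⟩ := exists_invol_commute_of_even ht hu (Nat.not_odd_iff_even.1 hn)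
  exact h (commute_of_sq_eq_one (hG.sq_of_mem h1 h2) (mem_cent_iff.2 h3) (mem_cent_iff.2 h4))

theorem exists_swap [Finite G] (hG : EAC G) {t u : G} (ht : t * t = 1) (hu : u * u = 1)
    (h : ¬ Commute t u) : ∃ v : G, v ≠ 1 ∧ v * v = 1 ∧ v * t * v = u := by
  obtain ⟨k, h1, h2⟩ := exists_invol_conj_of_odd ht hu (hG.odd_of_not_commute ht hu h)
  refine ⟨_, fun h0 => h ?_, h1, h2⟩
  rw [h0, one_mul, mul_one] at h2
  rw [h2]

end EAC

/-- `x` is not an involution or `1` and is inverted by the involution `w`. -/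
def InvBy (w x : G) : Prop := x * x ≠ 1 ∧ w ≠ 1 ∧ w * w = 1 ∧ w * x * w = x⁻¹

namespace EAC

theorem eq_one_of_real (hG : EAC G) {x : G} (hx : x * x ≠ 1) :
    ∀ a ∈ centralizer ({x} : Set G), a * a = 1 → a = 1 := by
  intro a ha h2
  by_contra h1
  exact hx (hG a x h1 h2 (mem_cent_iff.1 ha).symm)

theorem odd_card [Finite G] (hG : EAC G) {x : G} (hx : x * x ≠ 1) :
    Odd (Nat.card (centralizer ({x} : Set G))) :=
  odd_card_of_forall_sq (hG.eq_one_of_real hx)

theorem inverts_of_mem_normalizer [Finite G] (hG : EAC G) {x s : G} (hx : x * x ≠ 1) (hs1 : s ≠ 1)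
    (hs : s * s = 1) (hn : s ∈ normalizer ((centralizer ({x} : Set G) : Subgroup G) : Set G)) :
    ∀ a ∈ centralizer ({x} : Set G), s * a * s = a⁻¹ :=
  inverts_of_fpf hs hn fun a ha hc => hG.eq_one_of_real hx a ha (hG s a hs1 hs hc)

theorem mem_normalizer_of_invBy {w x : G} (h : InvBy w x) :
    w ∈ normalizer ((centralizer ({x} : Set G) : Subgroup G) : Set G) := by
  have hw := h.2.2.1
  have key : ∀ a ∈ centralizer ({x} : Set G), w * a * w ∈ centralizer ({x} : Set G) := by
    intro a ha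
    have h1 : Commute (w * x⁻¹ * w⁻¹) (w * a * w⁻¹) := (mem_cent_iff.1 ha).inv_left.conj w
    rw [inv_eq_self_of_mul_self hw] at h1
    have h2 : w * x⁻¹ * w = x := by
      rw [← h.2.2.2]
      calc w * (w * x * w) * w = (w * w) * x * (w * w) := by simp only [mul_assoc]
        _ = x := by rw [hw]; simp
    rw [h2] at h1
    exact mem_cent_iff.2 h1
  rw [mem_normalizer_iff]
  intro a
  rw [inv_eq_self_of_mul_self hw]
  refine ⟨key a, fun ha => ?_⟩
  have := key _ ha
  have e : w * (w * a * w) * w = a := by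
    calc w * (w * a * w) * w = (w * w) * a * (w * w) := by simp only [mul_assoc]
      _ = a := by rw [hw]; simp
  rwa [e] at this

theorem inverts [Finite G] (hG : EAC G) {w x : G} (h : InvBy w x) :
    ∀ a ∈ centralizer ({x} : Set G), w * a * w = a⁻¹ :=
  hG.inverts_of_mem_normalizer h.1 h.2.1 h.2.2.1 (mem_normalizer_of_invBy h)

theorem invBy_of_mem [Finite G] (hG : EAC G) {w x a : G} (h : InvBy w x)
    (ha : a ∈ centralizer ({x} : Set G)) (ha1 : a ≠ 1) : InvBy w a :=
  ⟨fun h2 => ha1 (hG.eq_one_of_real h.1 a ha h2), h.2.1, h.2.2.1, hG.inverts h a ha⟩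

theorem cent_eq_of_invBy [Finite G] (hG : EAC G) {w x : G} (h : InvBy w x) :
    ∀ a ∈ centralizer ({x} : Set G), a ≠ 1 →
      centralizer ({a} : Set G) = centralizer ({x} : Set G) := by
  intro a ha ha1
  apply le_antisymm
  · intro y hy
    exact mem_cent_iff.2 (commute_of_inverts h.2.2.1 (hG.inverts (hG.invBy_of_mem h ha ha1))
      (mem_cent_iff.2 (mem_cent_iff.1 ha).symm) hy)
  · intro y hy
    exact mem_cent_iff.2 (commute_of_inverts h.2.2.1 (hG.inverts h) ha hy)

theorem mul_mem_cent_of_inverts {w w' x : G} (hw : w * w = 1) (hw' : w' * w' = 1)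
    (h : w * x * w = x⁻¹) (h' : w' * x * w' = x⁻¹) : w' * w ∈ centralizer ({x} : Set G) := by
  rw [mem_centralizer_singleton_iff]
  have h1 : w * x = x⁻¹ * w := by rw [← h, mul_assoc, hw, mul_one]
  have h2 : w' * x⁻¹ = x * w' := by
    rw [← h', ← mul_assoc, ← mul_assoc, hw', one_mul]
  rw [mul_assoc, h1, ← mul_assoc, h2, mul_assoc]

theorem mem_or_of_mem_normalizer [Finite G] (hG : EAC G) {w x g : G} (h : InvBy w x)
    (hg : g ∈ normalizer ((centralizer ({x} : Set G) : Subgroup G) : Set G)) :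
    g ∈ centralizer ({x} : Set G) ∨ w * g ∈ centralizer ({x} : Set G) := by
  have hw := h.2.2.1
  have hwi := inv_eq_self_of_mul_self hw
  have hn' : g * w * g⁻¹ ∈ normalizer ((centralizer ({x} : Set G) : Subgroup G) : Set G) :=
    mul_mem (mul_mem hg (mem_normalizer_of_invBy h)) (inv_mem hg)
  have hw' : g * w * g⁻¹ * (g * w * g⁻¹) = 1 := by
    calc g * w * g⁻¹ * (g * w * g⁻¹) = g * (w * w) * g⁻¹ := by group
      _ = 1 := by rw [hw]; simp
  have hxx : x ∈ centralizer ({x} : Set G) := mem_cent_iff.2 (Commute.refl x)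
  have h1 := hG.inverts_of_mem_normalizer h.1 (by simpa using h.2.1) hw' hn' x hxx
  obtain ⟨c, hc, hcc⟩ := exists_sq_eq_of_odd (hG.odd_card h.1)
    (mul_mem_cent_of_inverts hw hw' h.2.2.2 h1)
  have h2 : w * c⁻¹ * w = c := by rw [hG.inverts h _ (inv_mem hc), inv_inv]
  have h3 : c * w * c⁻¹ = g * w * g⁻¹ := by
    calc c * w * c⁻¹ = c * (w * c⁻¹ * w) * w := by
          rw [mul_assoc c (w * c⁻¹ * w) w, mul_assoc (w * c⁻¹) w w, hw]; group
      _ = _ := by rw [h2, hcc, mul_assoc _ w w, hw, mul_one]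
  have h4 : Commute w (c⁻¹ * g) := by
    rw [Commute, SemiconjBy]
    calc w * (c⁻¹ * g) = c⁻¹ * (c * w * c⁻¹) * g := by group
      _ = c⁻¹ * g * w := by rw [h3]; group
  by_cases hs : c⁻¹ * g = 1
  · left
    have : g = c := by rw [inv_mul_eq_one] at hs; exact hs.symm
    rwa [this]
  · right
    have hss := hG w _ h.2.1 hw h4
    have h5 := hG.inverts_of_mem_normalizer h.1 hs hss
      (mul_mem (le_normalizer (inv_mem hc)) hg) x hxx
    have h6 := mul_mem_cent_of_inverts hss hw h5 h.2.2.2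
    have h7 : w * g = (w * c * w) * (w * (c⁻¹ * g)) := by
      calc w * g = w * c * (w * w) * (c⁻¹ * g) := by rw [hw]; group
        _ = _ := by group
    rw [h7, hG.inverts h c hc]
    exact mul_mem (inv_mem hc) h6

theorem not_mem_cent_of_invBy {w x : G} (h : InvBy w x) : w ∉ centralizer ({x} : Set G) := by
  intro hw
  have h1 := h.2.2.2
  rw [mem_centralizer_singleton_iff.1 hw, mul_assoc, h.2.2.1, mul_one] at h1
  exact h.1 (by nth_rewrite 2 [h1]; exact mul_inv_cancel x)

theorem card_normalizer [Finite G] (hG : EAC G) {w x : G} (h : InvBy w x) :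
    Nat.card (normalizer ((centralizer ({x} : Set G) : Subgroup G) : Set G)) =
      2 * Nat.card (centralizer ({x} : Set G)) := by
  have hw := h.2.2.1
  have e : ((normalizer ((centralizer ({x} : Set G) : Subgroup G) : Set G) : Subgroup G) : Set G) =
      (centralizer ({x} : Set G) : Set G) ∪ (fun a => w * a) '' (centralizer ({x} : Set G) : Set G) := by
    ext g
    constructor
    · intro hg
      rcases hG.mem_or_of_mem_normalizer h hg with h1 | h1
      · exact Or.inl h1
      · exact Or.inr ⟨w * g, h1, by simp only [← mul_assoc, hw, one_mul]⟩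
    · rintro (h1 | ⟨a, ha, rfl⟩)
      · exact le_normalizer h1
      · exact mul_mem (mem_normalizer_of_invBy h) (le_normalizer ha)
  have hd : Disjoint (centralizer ({x} : Set G) : Set G)
      ((fun a => w * a) '' (centralizer ({x} : Set G) : Set G)) := by
    rw [Set.disjoint_left]
    rintro _ h1 ⟨a, ha, rfl⟩
    exact not_mem_cent_of_invBy h (by simpa using mul_mem h1 (inv_mem ha))
  rw [← SetLike.coe_sort_coe, Nat.card_coe_set_eq, e, Set.ncard_union_eq hd,
    Set.ncard_image_of_injective _ (mul_right_injective w), ← Nat.card_coe_set_eq, two_mul]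
  rfl

theorem ncard_invBy [Finite G] (hG : EAC G) {w x : G} (h : InvBy w x) :
    {v | InvBy v x}.ncard = Nat.card (centralizer ({x} : Set G)) := by
  have hw := h.2.2.1
  have e : {v | InvBy v x} = (fun a => a * w) '' (centralizer ({x} : Set G) : Set G) := by
    ext v
    constructor
    · intro hv
      exact ⟨v * w, mul_mem_cent_of_inverts hw hv.2.2.1 h.2.2.2 hv.2.2.2,
        by simp only [mul_assoc, hw, mul_one]⟩
    · rintro ⟨a, ha, rfl⟩
      have h1 := hG.inverts h a ha
      refine ⟨h.1, fun h0 => not_mem_cent_of_invBy h ?_, ?_, ?_⟩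
      · have : w = a⁻¹ := eq_inv_of_mul_eq_one_right h0
        rw [this]; exact inv_mem ha
      · calc a * w * (a * w) = a * (w * a * w) := by group
          _ = 1 := by rw [h1, mul_inv_cancel]
      · have h2 := hG.inverts h _ (mul_mem (mem_cent_iff.2 (Commute.refl x)) ha)
        calc a * w * x * (a * w) = a * (w * (x * a) * w) := by group
          _ = x⁻¹ := by rw [h2]; group
  rw [e, Set.ncard_image_of_injective _ (mul_left_injective w), ← Nat.card_coe_set_eq]
  rfl

theorem invBy_conj {w x : G} (h : InvBy w x) (g : G) : InvBy (g * w * g⁻¹) (g * x * g⁻¹) := by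
  refine ⟨?_, by simpa using h.2.1, ?_, ?_⟩
  · intro h1; apply h.1
    have : g * (x * x) * g⁻¹ = 1 := by rw [← h1]; group
    simpa using this
  · calc g * w * g⁻¹ * (g * w * g⁻¹) = g * (w * w) * g⁻¹ := by group
      _ = 1 := by rw [h.2.2.1]; simp
  · calc g * w * g⁻¹ * (g * x * g⁻¹) * (g * w * g⁻¹) = g * (w * x * w) * g⁻¹ := by group
      _ = _ := by rw [h.2.2.2]; group

/-- The number of real elements with centralizer of order `a`. -/
theorem ncard_real_fiber [Finite G] (hG : EAC G) {w x : G} (h : InvBy w x) :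
    {y : G | (∃ v, InvBy v y) ∧ Nat.card (centralizer ({y} : Set G)) =
      Nat.card (centralizer ({x} : Set G))}.ncard * (2 * Nat.card (centralizer ({x} : Set G))) =
      Nat.card G * (Nat.card (centralizer ({x} : Set G)) - 1) := by
  have hx1 : x ≠ 1 := fun h0 => h.1 (by rw [h0, one_mul])
  have h1 := ncard_conj_mul_card ((centralizer ({x} : Set G) : Set G) \ {1})
    (normalizer ((centralizer ({x} : Set G) : Subgroup G) : Set G))
    (fun g hg y hy => ⟨(mem_normalizer_iff.1 hg y).1 hy.1, by simpa using hy.2⟩)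
    (fun g y hy hy' => by
      rw [← H1.map_conj_eq_self_iff]
      rw [← hG.cent_eq_of_invBy h y hy.1 hy.2, ← centralizer_singleton_conj,
        hG.cent_eq_of_invBy h _ hy'.1 hy'.2, hG.cent_eq_of_invBy h y hy.1 hy.2])
  have hxx : x ∈ centralizer ({x} : Set G) := mem_cent_iff.2 (Commute.refl x)
  rw [hG.card_normalizer h, Set.ncard_diff_singleton_of_mem (SetLike.mem_coe.2 (one_mem _)),
    ← Nat.card_coe_set_eq (centralizer ({x} : Set G) : Set G)] at h1
  have e : {y : G | (∃ v, InvBy v y) ∧ Nat.card (centralizer ({y} : Set G)) =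
      Nat.card (centralizer ({x} : Set G))} =
      {y | ∃ z ∈ (centralizer ({x} : Set G) : Set G) \ {1}, IsConj z y} := by
    ext y
    constructor
    · rintro ⟨⟨v, hv⟩, hc⟩
      have hy1 : y ≠ 1 := fun h0 => hv.1 (by rw [h0, one_mul])
      have hlt : 1 < Nat.card (centralizer ({x} : Set G)) :=
        (one_lt_card_iff_ne_bot _).2 fun h0 => hx1 (by rwa [h0, mem_bot] at hxx)
      obtain ⟨g, hg⟩ := exists_conj_of_not_coprime (hG.cent_eq_of_invBy h) (hG.cent_eq_of_invBy hv)
        (by rw [hc, Nat.coprime_self]; omega)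
      have : y ∈ centralizer ({y} : Set G) := mem_cent_iff.2 (Commute.refl y)
      rw [hg] at this
      obtain ⟨z, hz, rfl⟩ := this
      exact ⟨z, ⟨hz, fun h0 => hy1 (by rw [Set.mem_singleton_iff.1 h0]; simp)⟩,
        isConj_iff.2 ⟨g, rfl⟩⟩
    · rintro ⟨z, hz, hc⟩
      refine ⟨?_, by rw [card_centralizer_of_isConj hc, hG.cent_eq_of_invBy h z hz.1 hz.2]⟩
      obtain ⟨g, rfl⟩ := isConj_iff.1 hc
      exact ⟨_, invBy_conj (hG.invBy_of_mem h hz.1 hz.2) g⟩
  rw [e]
  exact h1

theorem isConj_of_invol [Finite G] (hG : EAC G) {t u s : G} (ht1 : t ≠ 1) (ht : t * t = 1)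
    (hu : u * u = 1) (htu : ¬ Commute t u) (hs1 : s ≠ 1) (hs : s * s = 1) : IsConj t s := by
  have key : ∀ a b : G, a * a = 1 → b * b = 1 → ¬ Commute a b → IsConj a b := by
    intro a b ha hb hab
    obtain ⟨v, -, hv, h⟩ := hG.exists_swap ha hb hab
    exact isConj_iff.2 ⟨v, by rw [inv_eq_self_of_mul_self hv, h]⟩
  by_cases h : Commute t s
  · refine (key t u ht hu htu).trans (key s u hs hu fun hsu => htu ?_).symm
    have := mem_cent_iff.2 hsu
    rw [hG.cent_eq ht1 ht (mem_cent_iff.2 h) hs1] at this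
    exact mem_cent_iff.1 this
  · exact key t s ht hs h

theorem arith_aux {q m a b : ℕ} (hq : 2 < q) (ha : q - 1 ∣ a) (ha0 : 0 < a) (hb : 3 ≤ b)
    (hm0 : 0 < m) (hm : 2 * m = 2 * (q - 1) + q * ((a - 1) + (b - 1))) (hab : a * b ∣ m) :
    m = (q - 1) * (q + 1) := by
  obtain ⟨k, rfl⟩ : ∃ k, q = k + 1 := ⟨q - 1, by omega⟩
  obtain ⟨a, rfl⟩ : ∃ c, a = c + 1 := ⟨a - 1, by omega⟩
  obtain ⟨b, rfl⟩ : ∃ c, b = c + 2 := ⟨b - 2, by omega⟩
  simp only [Nat.add_sub_cancel] at *
  rw [show b + 2 - 1 = b + 1 by omega] at hm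
  have h1 : k ∣ 2 * m := Dvd.dvd.mul_left (ha.trans (Dvd.dvd.trans (Dvd.intro _ rfl) hab)) 2
  have h2 : k ∣ b := by
    have e : 2 * m = k * (2 + a + b + 1) + (a + 1) + b := by rw [hm]; ring
    rw [e] at h1
    exact (Nat.dvd_add_right (Dvd.dvd.add (Dvd.intro _ rfl) ha)).1 h1
  have h3 : k ≤ b := Nat.le_of_dvd (by omega) h2
  have h4 : k ≤ a + 1 := Nat.le_of_dvd (by omega) ha
  have h5 : (a + 1) * (b + 2) ≤ m := Nat.le_of_dvd hm0 hab
  obtain ⟨y, rfl⟩ := Nat.exists_eq_add_of_le h3
  obtain ⟨x, hx⟩ := Nat.exists_eq_add_of_le h4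
  have hk : 2 ≤ k := by omega
  have e1 : 2 * m + 2 = (k + 1) * ((k + x) + (k + y + 2)) := by
    rw [← hx, hm]; ring
  rw [hx] at h5
  have hx0 : x = 0 := by nlinarith
  subst hx0
  have hy0 : y = 0 := by nlinarith
  subst hy0
  nlinarith

/-- The order formula. -/
theorem card_eq [Finite G] (hG : EAC G) {t u v h : G} (ht1 : t ≠ 1) (ht : t * t = 1)
    (hu : u * u = 1) (htu : ¬ Commute t u) {q : ℕ} (hq : Nat.card (centralizer ({t} : Set G)) = q)
    (hq2 : 2 < q) (hh : InvBy v h) (hdvd : q - 1 ∣ Nat.card (centralizer ({h} : Set G))) :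
    Nat.card G = q * (q - 1) * (q + 1) := by
  classical
  have := Fintype.ofFinite G
  let I : Finset G := Finset.univ.filter fun s => s ≠ 1 ∧ s * s = 1
  let X : Finset G := Finset.univ.filter fun x => ∃ w, InvBy w x
  let a : G → ℕ := fun x => Nat.card (centralizer ({x} : Set G))
  have hI : ∀ s, s ∈ I ↔ s ≠ 1 ∧ s * s = 1 := fun s => by simp [I]
  have hX : ∀ s, s ∈ X ↔ ∃ w, InvBy w s := fun s => by simp [X]
  have hm : I.card * q = Nat.card G := by
    rw [← ncard_isConj_mul_card_centralizer t, hq, ← Set.ncard_coe_finset]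
    congr 2
    ext s
    simp only [Finset.mem_coe, hI, Set.mem_setOf_eq]
    refine ⟨fun hs => hG.isConj_of_invol ht1 ht hu htu hs.1 hs.2, fun hs => ?_⟩
    obtain ⟨g, rfl⟩ := isConj_iff.1 hs
    refine ⟨by simpa using ht1, ?_⟩
    calc g * t * g⁻¹ * (g * t * g⁻¹) = g * (t * t) * g⁻¹ := by group
      _ = 1 := by rw [ht]; simp
  -- commuting pairs
  have hc1 : ((I ×ˢ I).filter fun z => Commute z.1 z.2).card = I.card * (q - 1) := by
    rw [Finset.card_eq_sum_card_fiberwise (f := Prod.fst) (t := I)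
      (fun z hz => (Finset.mem_product.1 (Finset.mem_filter.1 hz).1).1)]
    rw [Finset.sum_congr rfl (g := fun _ => q - 1), Finset.sum_const, smul_eq_mul]
    intro s hs
    obtain ⟨hs1, hs2⟩ := (hI s).1 hs
    rw [← hq, ← card_centralizer_of_isConj (hG.isConj_of_invol ht1 ht hu htu hs1 hs2),
      ← SetLike.coe_sort_coe, Nat.card_coe_set_eq,
      ← Set.ncard_diff_singleton_of_mem (SetLike.mem_coe.2 (one_mem _)), ← Set.ncard_coe_finset]
    symm
    apply Set.ncard_congr (fun y _ => (s, y))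
    · intro y hy
      simp only [Finset.coe_filter, Finset.mem_filter, Finset.mem_product, Set.mem_setOf_eq, hI]
      exact ⟨⟨⟨⟨hs1, hs2⟩, hy.2, hG.sq_of_mem hs1 hs2 y hy.1⟩, mem_cent_iff.1 hy.1⟩, trivial⟩
    · intro y y' _ _ h; exact (Prod.ext_iff.1 h).2
    · rintro ⟨s', y⟩ hy
      simp only [Finset.coe_filter, Finset.mem_filter, Finset.mem_product, Set.mem_setOf_eq,
        hI] at hy
      obtain ⟨⟨⟨-, h1, -⟩, h2⟩, rfl⟩ := hy
      exact ⟨y, ⟨mem_cent_iff.2 h2, h1⟩, rfl⟩
  have hc2 : ((I ×ˢ I).filter fun z => ¬ Commute z.1 z.2).card = ∑ x ∈ X, a x := by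
    rw [Finset.card_eq_sum_card_fiberwise (f := fun z => z.1 * z.2) (t := X)]
    · refine Finset.sum_congr rfl fun x hx => ?_
      obtain ⟨w, hw⟩ := (hX x).1 hx
      simp only [a]
      rw [← hG.ncard_invBy hw, ← Set.ncard_coe_finset]
      symm
      apply Set.ncard_congr (fun y _ => (y, y * x))
      · intro y hy
        simp only [Finset.coe_filter, Finset.mem_filter, Finset.mem_product, Set.mem_setOf_eq, hI]
        refine ⟨⟨⟨⟨hy.2.1, hy.2.2.1⟩, fun h0 => ?_, ?_⟩, fun h0 => ?_⟩, ?_⟩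
        · apply hy.1
          rw [eq_inv_of_mul_eq_one_right h0, ← mul_inv_rev, hy.2.2.1, inv_one]
        · rw [← mul_assoc, hy.2.2.2, inv_mul_cancel]
        · apply not_mem_cent_of_invBy hy
          have := (Commute.refl y).inv_right.mul_right h0
          rw [inv_mul_cancel_left] at this
          exact mem_cent_iff.2 this.symm
        · rw [← mul_assoc, hy.2.2.1, one_mul]
      · intro y y' _ _ h; exact (Prod.ext_iff.1 h).1
      · rintro ⟨i, j⟩ hy
        simp only [Finset.coe_filter, Finset.mem_filter, Finset.mem_product, Set.mem_setOf_eq,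
          hI] at hy
        obtain ⟨⟨⟨hi, hj⟩, h2⟩, rfl⟩ := hy
        refine ⟨i, ⟨hw.1, hi.1, hi.2, ?_⟩, by rw [← mul_assoc, hi.2, one_mul]⟩
        rw [← mul_assoc, hi.2, one_mul, mul_inv_rev, inv_eq_self_of_mul_self hi.2,
          inv_eq_self_of_mul_self hj.2]
    · rintro ⟨i, j⟩ hy
      simp only [Finset.coe_filter, Finset.mem_product, Set.mem_setOf_eq, hI] at hy
      obtain ⟨⟨hi, hj⟩, h2⟩ := hy
      have e : (i * j)⁻¹ = j * i := by
        rw [mul_inv_rev, inv_eq_self_of_mul_self hi.2, inv_eq_self_of_mul_self hj.2]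
      refine (hX _).2 ⟨i, fun h0 => h2 ?_, hi.1, hi.2, ?_⟩
      · have := inv_eq_self_of_mul_self h0
        rw [e] at this; exact this.symm
      · rw [← mul_assoc, hi.2, one_mul, e]
  have hc := Finset.card_filter_add_card_filter_not (s := I ×ˢ I) (fun z => Commute z.1 z.2)
  rw [hc1, hc2, Finset.card_product] at hc
  -- grouping by centralizer orders
  let V := X.image a
  let n : ℕ → ℕ := fun c => (X.filter fun x => a x = c).card
  have hV : ∀ c ∈ V, n c * (2 * c) = Nat.card G * (c - 1) ∧ 3 ≤ c ∧ c ∣ I.card := by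
    intro c hc
    obtain ⟨x, hx, rfl⟩ := Finset.mem_image.1 hc
    obtain ⟨w, hw⟩ := (hX x).1 hx
    have hodd := hG.odd_card hw.1
    refine ⟨?_, ?_, ?_⟩
    · rw [← hG.ncard_real_fiber hw]
      simp only [n, a]
      rw [← Set.ncard_coe_finset]
      congr 2
      ext y
      simp [hX]
    · have hx1 : x ≠ 1 := fun h0 => hw.1 (by rw [h0, one_mul])
      have hxx : x ∈ centralizer ({x} : Set G) := mem_cent_iff.2 (Commute.refl x)
      have hlt : 1 < Nat.card (centralizer ({x} : Set G)) :=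
        (one_lt_card_iff_ne_bot _).2 fun h0 => hx1 (by rwa [h0, mem_bot] at hxx)
      obtain ⟨k, hk⟩ := hodd
      simp only [a]; omega
    · have h1 : a x ∣ I.card * q := hm ▸ card_subgroup_dvd_card _
      refine Nat.Coprime.dvd_of_dvd_mul_right ?_ h1
      have h2 : IsPGroup 2 (centralizer ({t} : Set G)) := fun y =>
        ⟨1, Subtype.ext (by simpa [sq] using hG.sq_of_mem ht1 ht y y.2)⟩
      have : Fact (Nat.Prime 2) := ⟨Nat.prime_two⟩
      obtain ⟨k, hk⟩ := h2.exists_card_eq
      rw [← hq, hk]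
      exact (Nat.coprime_two_right.2 hodd).pow_right k
  have hs1 : ∑ x ∈ X, a x = ∑ c ∈ V, n c * c := by
    rw [← Finset.sum_fiberwise_of_maps_to (g := a) (t := V)
      (fun x hx => Finset.mem_image_of_mem a hx)]
    refine Finset.sum_congr rfl fun c _ => ?_
    rw [Finset.sum_congr rfl (g := fun _ => c) (fun x hx => (Finset.mem_filter.1 hx).2),
      Finset.sum_const, smul_eq_mul]
  have hs2 : X.card = ∑ c ∈ V, n c := Finset.card_eq_sum_card_image a X
  have hGpos : 0 < Nat.card G := Nat.card_pos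
  have hXlt : X.card < Nat.card G := by
    rw [Nat.card_eq_fintype_card, ← Finset.card_univ]
    apply Finset.card_lt_card
    refine ⟨Finset.subset_univ _, fun h0 => ?_⟩
    obtain ⟨w, hw⟩ := (hX 1).1 (h0 (Finset.mem_univ _))
    exact hw.1 (one_mul 1)
  have hV2 : V.card ≤ 2 := by
    have : V.card * Nat.card G ≤ 3 * X.card := by
      rw [hs2, Finset.mul_sum, ← smul_eq_mul, ← Finset.sum_const]
      refine Finset.sum_le_sum fun c hc => ?_
      obtain ⟨h1, h2, -⟩ := hV c hc
      obtain ⟨d, rfl⟩ : ∃ d, c = d + 1 := ⟨c - 1, by omega⟩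
      rw [Nat.add_sub_cancel] at h1
      by_contra hlt
      push Not at hlt
      nlinarith
    by_contra hlt
    have : 3 ≤ V.card := by omega
    nlinarith
  have hm0 : 0 < I.card := Finset.card_pos.2 ⟨t, (hI t).2 ⟨ht1, ht⟩⟩
  have hmain : 2 * I.card = 2 * (q - 1) + q * ∑ c ∈ V, (c - 1) := by
    apply Nat.eq_of_mul_eq_mul_left hm0
    have : 2 * ∑ c ∈ V, n c * c = I.card * (q * ∑ c ∈ V, (c - 1)) := by
      rw [← mul_assoc, hm, Finset.mul_sum, Finset.mul_sum]
      refine Finset.sum_congr rfl fun c hc => ?_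
      rw [← (hV c hc).1]; ring
    rw [mul_add, ← this, ← hs1, mul_left_comm, ← hc]; ring
  have hhV : a h ∈ V := Finset.mem_image_of_mem a ((hX h).2 ⟨v, hh⟩)
  suffices hfin : I.card = (q - 1) * (q + 1) by rw [← hm, hfin]; ring
  obtain ⟨-, ha3, had⟩ := hV _ hhV
  by_cases hV1 : V = {a h}
  · exfalso
    rw [hV1, Finset.sum_singleton] at hmain
    have h1 : a h ∣ q - 2 := by
      have e : 2 * I.card = q * a h + (q - 2) := by
        rw [hmain]
        obtain ⟨d, hd⟩ : ∃ d, a h = d + 1 := ⟨a h - 1, by omega⟩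
        obtain ⟨r, rfl⟩ : ∃ r, q = r + 2 := ⟨q - 2, by omega⟩
        rw [hd]
        simp only [Nat.add_sub_cancel, show r + 2 - 1 = r + 1 by omega]
        ring
      have := Dvd.dvd.mul_left had 2
      rw [e] at this
      exact (Nat.dvd_add_right (Dvd.intro_left _ rfl)).1 this
    have h2 := Nat.le_of_dvd (by omega) h1
    have h3 := Nat.le_of_dvd (by omega : 0 < a h) hdvd
    omega
  · obtain ⟨b, hb, hba⟩ : ∃ b ∈ V, b ≠ a h := by
      by_contra hn
      push Not at hn
      exact hV1 (Finset.eq_singleton_iff_unique_mem.2 ⟨hhV, hn⟩)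
    have hVe : V = {a h, b} := by
      symm
      apply Finset.eq_of_subset_of_card_le
      · intro c hc
        rcases Finset.mem_insert.1 hc with rfl | hc
        · exact hhV
        · rw [Finset.mem_singleton.1 hc]; exact hb
      · rw [Finset.card_pair hba.symm]; exact hV2
    rw [hVe, Finset.sum_pair hba.symm] at hmain
    obtain ⟨-, hb3, hbd⟩ := hV _ hb
    refine arith_aux hq2 hdvd Nat.card_pos hb3 hm0 hmain (Nat.Coprime.mul_dvd_of_dvd_of_dvd ?_ had hbd)
    obtain ⟨y, hy, rfl⟩ := Finset.mem_image.1 hb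
    obtain ⟨w, hw⟩ := (hX y).1 hy
    by_contra hn
    obtain ⟨g, hg⟩ := exists_conj_of_not_coprime (hG.cent_eq_of_invBy hh) (hG.cent_eq_of_invBy hw) hn
    exact hba (by simp only [a]; rw [hg, H1.card_map_conj])

end EAC

end Cfsg.Agent.L
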