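import Cfsg.Agent.L.MinNormal

/-! Reduction of solvability statements to simple groups. -/

set_option autoImplicit false

namespace Cfsg.Agent.L

open Cfsg

universe u

theorem isSolvable_of_normal_of_quotient {G : Type*} [Group G] (N : Subgroup G) [N.Normal]
    (h1 : Group.IsSolvable N) (h2 : Group.IsSolvable (G ⧸ N)) : Group.IsSolvable G :=
  Group.isSolvable_of_ker_le_range N.subtype (QuotientGroup.mk' N) (by simp)

/-- A class of finite groups closed under normal subgroups and quotients and containing no
nonabelian simple group consists of solvable groups. -/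
theorem isSolvable_of_closed {P : ∀ (G : Type u) [Group G] [Finite G], Prop}
    (hsub : ∀ (G : Type u) [Group G] [Finite G] (N : Subgroup G) [N.Normal], P G → P N)
    (hquo : ∀ (G : Type u) [Group G] [Finite G] (N : Subgroup G) [N.Normal], P G → P (G ⧸ N))
    (hsimple : ∀ (G : Type u) [Group G] [Finite G] [IsSimpleGroup G], P G →
      ¬ Group.IsSolvable G → False)
    (G : Type u) [Group G] [Finite G] (h : P G) : Group.IsSolvable G := by
  revert h
  refine induction_on_card (P := fun G _ _ => P G → Group.IsSolvable G) G ?_
  intro G _ _ ih h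
  by_contra hns
  rcases subsingleton_or_nontrivial G with hG | hG
  · exact hns inferInstance
  have : IsSimpleGroup G := by
    refine ⟨fun N hN => ?_⟩
    by_contra hne
    push Not at hne
    exact hns (isSolvable_of_normal_of_quotient N (ih N (card_lt_of_ne_top hne.2) (hsub G N h))
      (ih (G ⧸ N) (card_quotient_lt N hne.1) (hquo G N h)))
  exact hsimple G h hns

theorem not_isMulCommutative_of_not_isSolvable {G : Type*} [Group G] (h : ¬ Group.IsSolvable G) :
    ¬ IsMulCommutative G := fun _ => h (isSolvable_of_isMulCommutative G)

theorem not_isSolvable_of_isSimpleGroup {G : Type*} [Group G] [IsSimpleGroup G]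
    (h : ¬ IsMulCommutative G) : ¬ Group.IsSolvable G := fun hs =>
  h ⟨⟨IsSimpleGroup.comm_iff_isSolvable.2 hs⟩⟩

/-- In a nonsolvable simple group a solvable normal subgroup is trivial. -/
theorem eq_bot_of_normal_of_isSolvable {G : Type*} [Group G] [IsSimpleGroup G]
    (h : ¬ Group.IsSolvable G) (N : Subgroup G) [hN : N.Normal] (hs : Group.IsSolvable N) :
    N = ⊥ := by
  rcases hN.eq_bot_or_eq_top with h1 | h1
  · exact h1
  · subst h1
    exact (h (isSolvable_of_mulEquiv (G := (⊤ : Subgroup G)) Subgroup.topEquiv)).elim

end Cfsg.Agent.L
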