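import Cfsg.Agent.L.BSW2
import Cfsg.Agent.L.SimpleRed
import Cfsg.Agent.H6.Burnside
import Cfsg.Agent.H8.PComplement

/-! Groups whose order has three prime divisors; the small groups `SL₂(4)` and `SL₂(8)`. -/

set_option autoImplicit false

namespace Cfsg.Agent.L

open Cfsg Subgroup

variable {G : Type*} [Group G]

theorem isSolvable_of_hasNPC_of_three [Finite G] {p q r : ℕ} [hp : Fact p.Prime]
    (h : ∀ s : ℕ, s.Prime → s ∣ Nat.card G → s = p ∨ s = q ∨ s = r)
    (hN : HasNormalPComplement p G) : Group.IsSolvable G := by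
  obtain ⟨P, N, hn, hc⟩ := hN
  refine isSolvable_of_normal_of_quotient N (H6.isSolvable_of_primes_two q r fun s hs hd => ?_) ?_
  · refine (h s hs (hd.trans (card_subgroup_dvd_card N))).resolve_left ?_
    rintro rfl
    exact P.not_dvd_index (hc.index_eq_card ▸ hd)
  · have : IsPGroup p (G ⧸ N) := by
      obtain ⟨k, hk⟩ := P.isPGroup'.exists_card_eq
      exact IsPGroup.of_card (n := k) (by rw [← index_eq_card, hc.symm.index_eq_card, hk])
    have := this.isNilpotent
    infer_instance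

theorem isSolvable_of_normal_of_three [Finite G] {p q r : ℕ} [hp : Fact p.Prime]
    (h : ∀ s : ℕ, s.Prime → s ∣ Nat.card G → s = p ∨ s = q ∨ s = r)
    (P : Subgroup G) [P.Normal] (hP : IsPGroup p P) (hi : ¬ p ∣ P.index) :
    Group.IsSolvable G := by
  have := hP.isNilpotent
  refine isSolvable_of_normal_of_quotient P inferInstance
    (H6.isSolvable_of_primes_two q r fun s hs hd => ?_)
  refine (h s hs (hd.trans (card_quotient_dvd_card P))).resolve_left ?_
  rintro rfl
  exact hi hd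

theorem exists_three_primes [Finite G] (hns : ¬ Group.IsSolvable G) :
    ∃ p q r : ℕ, p.Prime ∧ q.Prime ∧ r.Prime ∧ p ≠ q ∧ p ≠ r ∧ q ≠ r ∧
      p ∣ Nat.card G ∧ q ∣ Nat.card G ∧ r ∣ Nat.card G := by
  have h : 2 < (Nat.card G).primeFactors.card := by
    by_contra hn
    exact hns (H6.isSolvable_of_card_primeFactors_le_two (by omega))
  obtain ⟨p, q, r, hp, hq, hr, h1, h2, h3⟩ := Finset.two_lt_card_iff.1 h
  exact ⟨p, q, r, Nat.prime_of_mem_primeFactors hp, Nat.prime_of_mem_primeFactors hq,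
    Nat.prime_of_mem_primeFactors hr, h1, h2, h3, Nat.dvd_of_mem_primeFactors hp,
    Nat.dvd_of_mem_primeFactors hq, Nat.dvd_of_mem_primeFactors hr⟩

theorem two_pow_eq_three_pow_add_one {n k : ℕ} (hn : 2 ≤ n) (h : 2 ^ n = 3 ^ k + 1) : n = 2 := by
  by_contra hne
  obtain ⟨m, rfl⟩ : ∃ m, n = m + 3 := ⟨n - 3, by omega⟩
  have h1 : 3 ^ k % 8 = 1 ∨ 3 ^ k % 8 = 3 := by
    clear h
    induction k with
    | zero => simp
    | succ k ih => rw [pow_succ]; omega
  rw [pow_add] at h
  omega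

theorem three_pow_eq_two_pow_add_one {n k : ℕ} (hn : 2 ≤ n) (h : 2 ^ n + 1 = 3 ^ k) : n = 3 := by
  have hk : Even k := by
    obtain ⟨m, rfl⟩ : ∃ m, n = m + 2 := ⟨n - 2, by omega⟩
    by_contra ho
    obtain ⟨j, rfl⟩ := Nat.not_even_iff_odd.1 ho
    have : 3 ^ (2 * j) % 4 = 1 := by rw [pow_mul, Nat.pow_mod]; simp
    rw [pow_add, pow_succ 3] at h
    omega
  obtain ⟨j, rfl⟩ := hk
  rw [pow_add] at h
  obtain ⟨a, ha⟩ : ∃ a, 3 ^ j = a + 1 := ⟨3 ^ j - 1, by have := Nat.one_le_pow j 3 (by omega); omega⟩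
  rw [ha] at h
  have e : a * (a + 2) = 2 ^ n := by nlinarith
  obtain ⟨i, -, hi⟩ := (Nat.dvd_prime_pow Nat.prime_two).1 (Dvd.intro _ e)
  obtain ⟨l, -, hl⟩ := (Nat.dvd_prime_pow Nat.prime_two).1 (Dvd.intro_left _ e)
  have ha2 : a = 2 := by
    rcases i with _ | _ | i
    · rcases l with _ | l
      · omega
      · rw [pow_succ] at hl; omega
    · simpa using hi
    · rcases l with _ | _ | l
      · omega
      · have := Nat.one_le_two_pow (n := i + 1 + 1); omega
      · rw [pow_succ, pow_succ] at hi hl; omega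
  subst ha2
  exact Nat.pow_right_injective (le_refl 2) (by simpa using e.symm)

theorem nonempty_SL2_equiv_alternating {F : Type*} [Field F] [Finite F] [CharP F 2]
    (h : Nat.card F = 4) :
    Nonempty (Matrix.SpecialLinearGroup (Fin 2) F ≃* alternatingGroup (Fin 5)) := by
  classical
  have hOP : Finite (OnePoint F) := inferInstanceAs (Finite (Option F))
  have hc : Nat.card (OnePoint F) = 5 := by
    have : Nat.card (OnePoint F) = Nat.card F + 1 := Finite.card_option
    omega
  let e : OnePoint F ≃ Fin 5 := Finite.equivFinOfCardEq hc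
  let ψ : Matrix.SpecialLinearGroup (Fin 2) F →* Equiv.Perm (Fin 5) :=
    (Equiv.permCongrHom e).toMonoidHom.comp (sl2Perm F)
  have hψ : Function.Injective ψ := (Equiv.permCongrHom e).injective.comp sl2Perm_injective
  have h1 : Nat.card ψ.range = 60 := by
    rw [← Nat.card_congr (MonoidHom.ofInjective hψ).toEquiv, card_SL2, h]
  have h2 : ψ.range.index = 2 := by
    have := ψ.range.card_mul_index
    rw [h1, Nat.card_perm, Nat.card_fin] at this
    simp only [Nat.factorial] at this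
    omega
  exact ⟨(MonoidHom.ofInjective hψ).trans
    (MulEquiv.subgroupCongr (Equiv.Perm.eq_alternatingGroup_of_index_eq_two h2))⟩

theorem mkSL2_congr {F : Type*} [Field F] {a b c d a' b' c' d' : F} {h : a * d - b * c = 1}
    {h' : a' * d' - b' * c' = 1} (h1 : a = a') (h2 : b = b') (h3 : c = c') (h4 : d = d') :
    mkSL2 a b c d h = mkSL2 a' b' c' d' h' := by
  subst h1 h2 h3 h4; rfl

theorem mkSL2_mul {F : Type*} [Field F] {a b c d a' b' c' d' : F} (h : a * d - b * c = 1)
    (h' : a' * d' - b' * c' = 1) : mkSL2 a b c d h * mkSL2 a' b' c' d' h' =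
      mkSL2 (a * a' + b * c') (a * b' + b * d') (c * a' + d * c') (c * b' + d * d')
        (by linear_combination (a' * d' - b' * c') * h + h') :=
  Subtype.ext (Matrix.mul_fin_two _ _ _ _ _ _ _ _)

theorem mkSL2_one {F : Type*} [Field F] : mkSL2 (1 : F) 0 0 1 (by simp) = 1 :=
  Subtype.ext Matrix.one_fin_two.symm

theorem exists_orderOf_nine {F : Type*} [Field F] [Finite F] [CharP F 2] (h : Nat.card F = 8) :
    ∃ g : Matrix.SpecialLinearGroup (Fin 2) F, orderOf g = 9 := by
  classical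
  have := Fintype.ofFinite F
  have h2 : (2 : F) = 0 := CharTwo.two_eq_zero
  obtain ⟨a, ha⟩ : ∃ a : F, a ^ 3 + a + 1 = 0 := by
    obtain ⟨x, hx0, hx1⟩ : ∃ x : F, x ≠ 0 ∧ x ≠ 1 := by
      obtain ⟨a, b, c, h1, h2, h3⟩ := Fintype.two_lt_card_iff.1
        (by rw [← Nat.card_eq_fintype_card, h]; omega : 2 < Fintype.card F)
      by_contra hn
      push Not at hn
      by_cases ha : a = 0 <;> by_cases hb : b = 0 <;> by_cases hc : c = 0 <;> simp_all
    have h7 := FiniteField.pow_card_sub_one_eq_one x hx0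
    rw [← Nat.card_eq_fintype_card, h] at h7
    have : (x - 1) * ((x ^ 3 + x + 1) * ((x + 1) ^ 3 + (x + 1) + 1)) = 0 := by
      linear_combination h7 + (x ^ 6 + x ^ 5 + x ^ 4 - 2 * x - 1) * h2
    rcases mul_eq_zero.1 this with h1 | h1
    · exact (hx1 (sub_eq_zero.1 h1)).elim
    · rcases mul_eq_zero.1 h1 with h1 | h1
      · exact ⟨_, h1⟩
      · exact ⟨_, h1⟩
  let g : Matrix.SpecialLinearGroup (Fin 2) F := mkSL2 0 1 1 a (by linear_combination -h2)
  let k : Matrix.SpecialLinearGroup (Fin 2) F := mkSL2 a (a ^ 2 + 1) (a ^ 2 + 1) (a + 1)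
    (by linear_combination -a * ha + (a - 1) * h2)
  have hk : g ^ 3 = k := by
    rw [pow_three]
    simp only [g, k, mkSL2_mul]
    apply mkSL2_congr <;> grind
  have hk3 : k ^ 3 = 1 := by
    rw [pow_three, ← mkSL2_one]
    simp only [k, mkSL2_mul]
    apply mkSL2_congr <;> grind
  have hk1 : k ≠ 1 := by
    intro h0
    have h1 : a = 1 := by simpa [k, mkSL2] using congrFun (congrFun (congrArg Subtype.val h0) 0) 0
    rw [h1] at ha
    exact one_ne_zero (by linear_combination ha - h2 : (1 : F) = 0)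
  have : Fact (Nat.Prime 3) := ⟨Nat.prime_three⟩
  refine ⟨g, orderOf_eq_prime_pow (p := 3) (n := 1) (by rwa [pow_one, hk]) ?_⟩
  rw [show 3 ^ (1 + 1) = 3 * 3 by norm_num, pow_mul, hk, hk3]

end Cfsg.Agent.L
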