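import Cfsg.Agent.L.MinNormal
import Cfsg.Agent.H6.CharOrth

/-! Elementary facts on involutions, inverted subgroups and counting conjugates of TI sets. -/

set_option autoImplicit false

namespace Cfsg.Agent.L

open Cfsg Subgroup

variable {G : Type*} [Group G]

theorem inv_eq_self_of_mul_self {t : G} (ht : t * t = 1) : t⁻¹ = t :=
  inv_eq_of_mul_eq_one_right ht

theorem invol_conj_pow {t u : G} (ht : t * t = 1) (hu : u * u = 1) (k : ℕ) :
    t * (t * u) ^ k * t = ((t * u) ^ k)⁻¹ := by
  have h1 : t * (t * u) * t⁻¹ = (t * u)⁻¹ := by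
    rw [mul_inv_rev, inv_eq_self_of_mul_self ht, inv_eq_self_of_mul_self hu, ← mul_assoc, ht,
      one_mul]
  rw [← inv_pow, ← h1, conj_pow, inv_eq_self_of_mul_self ht]

/-- Two involutions whose product has odd order are conjugate by an element of square one. -/
theorem exists_invol_conj_of_odd {t u : G} (ht : t * t = 1) (hu : u * u = 1)
    (h : Odd (orderOf (t * u))) : ∃ k : ℕ, (t * (t * u) ^ k) * (t * (t * u) ^ k) = 1 ∧
      (t * (t * u) ^ k) * t * (t * (t * u) ^ k) = u := by
  obtain ⟨k, hk⟩ := h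
  have h1 := invol_conj_pow ht hu (k + 1)
  refine ⟨k + 1, ?_, ?_⟩
  · rw [← mul_assoc, h1, inv_mul_cancel]
  · have h2 : (t * u) ^ (k + 1) * (t * u) ^ (k + 1) = t * u := by
      rw [← pow_add, show k + 1 + (k + 1) = orderOf (t * u) + 1 by omega, pow_succ,
        pow_orderOf_eq_one, one_mul]
    calc t * (t * u) ^ (k + 1) * t * (t * (t * u) ^ (k + 1))
        = t * ((t * u) ^ (k + 1) * (t * t) * (t * u) ^ (k + 1)) := by simp only [mul_assoc]
      _ = u := by rw [ht, mul_one, h2, ← mul_assoc, ht, one_mul]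

/-- Two involutions whose product has even order commute with a common involution. -/
theorem exists_invol_commute_of_even [Finite G] {t u : G} (ht : t * t = 1) (hu : u * u = 1)
    (h : Even (orderOf (t * u))) : ∃ k : ℕ, (t * u) ^ k ≠ 1 ∧ (t * u) ^ k * (t * u) ^ k = 1 ∧
      Commute ((t * u) ^ k) t ∧ Commute ((t * u) ^ k) u := by
  obtain ⟨k, hk⟩ := h
  have hpos := orderOf_pos (t * u)
  have h2 : (t * u) ^ k * (t * u) ^ k = 1 := by rw [← pow_add, ← hk, pow_orderOf_eq_one]
  have h3 : Commute ((t * u) ^ k) t := by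
    have := invol_conj_pow ht hu k
    rw [inv_eq_self_of_mul_self h2] at this
    rw [Commute, SemiconjBy]
    calc (t * u) ^ k * t = (t * t) * (t * u) ^ k * t := by rw [ht, one_mul]
      _ = t * (t * (t * u) ^ k * t) := by simp only [mul_assoc]
      _ = _ := by rw [this]
  refine ⟨k, pow_ne_one_of_lt_orderOf (by omega) (by omega), h2, h3, ?_⟩
  have h4 : Commute ((t * u) ^ k) (t * (t * u)) := h3.mul_right ((Commute.refl _).pow_left k)
  rwa [← mul_assoc, ht, one_mul] at h4

/-- An element of square one acting fixed-point-freely on a subgroup inverts it. -/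
theorem inverts_of_fpf [Finite G] {A : Subgroup G} {w : G} (hw : w * w = 1)
    (hn : w ∈ normalizer (A : Set G)) (hf : ∀ a ∈ A, Commute w a → a = 1) :
    ∀ a ∈ A, w * a * w = a⁻¹ := by
  have hwi := inv_eq_self_of_mul_self hw
  let φ : A →* A := ((A.normalizerMonoidHom ⟨w, hn⟩ : MulAut A) : A →* A)
  have hφ : ∀ a : A, (φ a : G) = w * a * w := fun a => by
    rw [← hwi]; simp [φ, hwi]
  have h1 : MonoidHom.FixedPointFree φ := by
    intro a ha
    apply Subtype.ext
    apply hf a a.2
    have := congrArg Subtype.val ha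
    rw [hφ] at this
    rw [Commute, SemiconjBy]
    calc w * a = w * a * (w * w) := by rw [hw, mul_one]
      _ = (w * a * w) * w := by simp only [mul_assoc]
      _ = a * w := by rw [this]
  have h2 : Function.Involutive φ := by
    intro a
    apply Subtype.ext
    rw [hφ, hφ]
    calc w * (w * a * w) * w = (w * w) * a * (w * w) := by simp only [mul_assoc]
      _ = a := by rw [hw]; simp
  intro a ha
  have := congrFun (h1.coe_eq_inv_of_involutive h2) ⟨a, ha⟩
  have := congrArg Subtype.val this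
  rwa [hφ] at this

theorem commute_of_inverts {A : Subgroup G} {w : G} (hw : w * w = 1)
    (h : ∀ a ∈ A, w * a * w = a⁻¹) {a b : G} (ha : a ∈ A) (hb : b ∈ A) : a * b = b * a := by
  have h1 := h _ (mul_mem ha hb)
  have h2 : w * (a * b) * w = (w * a * w) * (w * b * w) := by
    calc w * (a * b) * w = w * a * (w * w) * b * w := by rw [hw]; simp only [mul_assoc, one_mul]
      _ = _ := by simp only [mul_assoc]
  rw [h2, h a ha, h b hb, ← mul_inv_rev, inv_inj] at h1
  exact h1.symm

theorem commute_of_sq_eq_one {A : Subgroup G} (h : ∀ a ∈ A, a * a = 1) {a b : G} (ha : a ∈ A)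
    (hb : b ∈ A) : a * b = b * a := by
  have h1 := inv_eq_self_of_mul_self (h _ (mul_mem ha hb))
  rw [mul_inv_rev, inv_eq_self_of_mul_self (h a ha), inv_eq_self_of_mul_self (h b hb)] at h1
  exact h1.symm

theorem odd_card_of_forall_sq [Finite G] {A : Subgroup G} (h : ∀ a ∈ A, a * a = 1 → a = 1) :
    Odd (Nat.card A) := by
  by_contra hn
  rw [Nat.not_odd_iff_even, even_iff_two_dvd] at hn
  have : Fact (Nat.Prime 2) := ⟨Nat.prime_two⟩
  obtain ⟨a, ha⟩ := exists_prime_orderOf_dvd_card' 2 hn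
  have h1 : (a : G) * a = 1 := by
    have := pow_orderOf_eq_one a
    rw [ha, sq] at this
    exact congrArg Subtype.val this
  have : a = 1 := Subtype.ext (h a a.2 h1)
  rw [this, orderOf_one] at ha
  omega

theorem eq_one_of_sq_of_odd [Finite G] {A : Subgroup G} (h : Odd (Nat.card A)) {a : G}
    (ha : a ∈ A) (h2 : a * a = 1) : a = 1 := by
  have h3 : orderOf a ∣ 2 := orderOf_dvd_of_pow_eq_one (by rw [sq, h2])
  have h4 := A.orderOf_dvd_natCard ha
  have : orderOf a ∣ 1 := (Nat.coprime_two_left.2 h).gcd_eq_one ▸ Nat.dvd_gcd h3 h4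
  exact orderOf_eq_one_iff.1 (Nat.dvd_one.1 this)

theorem exists_sq_eq_of_odd [Finite G] {A : Subgroup G} (h : Odd (Nat.card A)) {a : G}
    (ha : a ∈ A) : ∃ b ∈ A, b * b = a := by
  obtain ⟨k, hk⟩ := h
  refine ⟨a ^ (k + 1), pow_mem ha _, ?_⟩
  have : a ^ Nat.card A = 1 := orderOf_dvd_iff_pow_eq_one.1 (A.orderOf_dvd_natCard ha)
  rw [← pow_add, show k + 1 + (k + 1) = Nat.card A + 1 by omega, pow_succ, this, one_mul]

/-- The number of elements conjugate into a TI set `S` with "normalizer" `N`. -/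
theorem ncard_conj_mul_card [Finite G] (S : Set G) (N : Subgroup G)
    (hN : ∀ g ∈ N, ∀ y ∈ S, g * y * g⁻¹ ∈ S)
    (hTI : ∀ g : G, ∀ y ∈ S, g * y * g⁻¹ ∈ S → g ∈ N) :
    {x | ∃ y ∈ S, IsConj y x}.ncard * Nat.card N = Nat.card G * S.ncard := by
  classical
  have := Fintype.ofFinite G
  let T := {x | ∃ y ∈ S, IsConj y x}
  let f : G × G → G := fun z => z.1 * z.2 * z.1⁻¹
  have h1 : ((Finset.univ : Finset G) ×ˢ S.toFinset).card =
      ∑ x ∈ T.toFinset, (((Finset.univ : Finset G) ×ˢ S.toFinset).filter (fun z => f z = x)).card := by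
    apply Finset.card_eq_sum_card_fiberwise
    intro z hz
    simp only [Finset.coe_product, Set.mem_prod, Finset.coe_univ, Set.mem_univ, Set.coe_toFinset,
      true_and] at hz ⊢
    exact ⟨z.2, hz, isConj_iff.2 ⟨z.1, rfl⟩⟩
  have h2 : ∀ x ∈ T.toFinset,
      (((Finset.univ : Finset G) ×ˢ S.toFinset).filter (fun z => f z = x)).card = Nat.card N := by
    intro x hx
    obtain ⟨y, hy, hc⟩ := Set.mem_toFinset.1 hx
    obtain ⟨c, rfl⟩ := isConj_iff.1 hc
    rw [Nat.card_eq_fintype_card, Fintype.card_subtype]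
    symm
    apply Finset.card_bij (fun n _ => (c * n, n⁻¹ * y * n))
    · intro n hn
      simp only [Finset.mem_filter, Finset.mem_univ, true_and] at hn
      simp only [Finset.mem_filter, Finset.mem_product, Finset.mem_univ, Set.mem_toFinset,
        true_and, f]
      exact ⟨by simpa using hN _ (inv_mem hn) y hy, by group⟩
    · intro a _ b _ h
      exact mul_left_cancel (Prod.ext_iff.1 h).1
    · rintro ⟨g, z⟩ hz
      simp only [Finset.mem_filter, Finset.mem_product, Finset.mem_univ, Set.mem_toFinset,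
        true_and, f] at hz
      have e : c⁻¹ * g * z * (c⁻¹ * g)⁻¹ = y := by
        calc c⁻¹ * g * z * (c⁻¹ * g)⁻¹ = c⁻¹ * (g * z * g⁻¹) * c := by group
          _ = y := by rw [hz.2]; group
      refine ⟨c⁻¹ * g, ?_, ?_⟩
      · simp only [Finset.mem_filter, Finset.mem_univ, true_and]
        exact hTI _ z hz.1 (e ▸ hy)
      · rw [← e]; ext <;> simp <;> group
  rw [Finset.sum_congr rfl h2, Finset.sum_const, smul_eq_mul, Finset.card_product,
    Finset.card_univ] at h1
  rw [Set.ncard_eq_toFinset_card', Set.ncard_eq_toFinset_card' S, Nat.card_eq_fintype_card (α := G),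
    h1]

theorem ncard_isConj_mul_card_centralizer [Finite G] (g : G) :
    {x | IsConj g x}.ncard * Nat.card (centralizer ({g} : Set G)) = Nat.card G := by
  rw [← H6.index_centralizer_eq_ncard, index_mul_card]

theorem centralizer_singleton_conj (g x : G) :
    centralizer ({g * x * g⁻¹} : Set G) =
      (centralizer ({x} : Set G)).map (MulAut.conj g).toMonoidHom := by
  ext y
  simp only [mem_centralizer_singleton_iff, mem_map]
  constructor
  · intro h
    refine ⟨g⁻¹ * y * g, ?_, by simp [mul_assoc]⟩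
    calc g⁻¹ * y * g * x = g⁻¹ * (y * (g * x * g⁻¹)) * g := by group
      _ = x * (g⁻¹ * y * g) := by rw [h]; group
  · rintro ⟨z, hz, rfl⟩
    simp only [MulEquiv.toMonoidHom_eq_coe, MonoidHom.coe_coe, MulAut.conj_apply]
    calc g * z * g⁻¹ * (g * x * g⁻¹) = g * (z * x) * g⁻¹ := by group
      _ = _ := by rw [hz]; group

theorem card_centralizer_of_isConj {x y : G} (h : IsConj x y) :
    Nat.card (centralizer ({y} : Set G)) = Nat.card (centralizer ({x} : Set G)) := by
  obtain ⟨g, rfl⟩ := isConj_iff.1 h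
  rw [centralizer_singleton_conj, card_map_of_injective (MulAut.conj g).injective]

/-- If `A = C(a)` for all `a ∈ A#`, then `A` contains a Sylow subgroup for each prime dividing
its order. -/
theorem exists_sylow_le_of_centralizer_eq [Finite G] {A : Subgroup G}
    (hA : ∀ a ∈ A, a ≠ 1 → centralizer ({a} : Set G) = A) {p : ℕ} [Fact p.Prime]
    (hp : p ∣ Nat.card A) : ∃ S : Sylow p G, (S : Subgroup G) ≤ A ∧ (S : Subgroup G) ≠ ⊥ := by
  obtain ⟨y, hy⟩ := exists_prime_orderOf_dvd_card' p hp
  have hy' : orderOf (y : G) = p := by rw [orderOf_coe, hy]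
  have hy1 : (y : G) ≠ 1 := by
    intro h; rw [h, orderOf_one] at hy'; exact (Fact.out : p.Prime).one_lt.ne hy'
  have hpg : IsPGroup p (zpowers (y : G)) := IsPGroup.of_card (n := 1) (by simp [hy])
  obtain ⟨S, hS⟩ := hpg.exists_le_sylow
  have hyS : (y : G) ∈ (S : Subgroup G) := hS (mem_zpowers _)
  have hSne : (S : Subgroup G) ≠ ⊥ := fun h => hy1 (by rwa [h, mem_bot] at hyS)
  have : Nontrivial (S : Subgroup G) := (nontrivial_iff_ne_bot _).2 hSne
  have := S.isPGroup'.center_nontrivial
  obtain ⟨z, hz⟩ := exists_ne (1 : center (S : Subgroup G))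
  have hz1 : ((z : (S : Subgroup G)) : G) ≠ 1 := fun h => hz (Subtype.ext (Subtype.ext h))
  have hzc : ∀ s ∈ (S : Subgroup G), s * (z : (S : Subgroup G)) = (z : (S : Subgroup G)) * s :=
    fun s hs => congrArg Subtype.val (mem_center_iff.1 z.2 ⟨s, hs⟩)
  have hzA : ((z : (S : Subgroup G)) : G) ∈ A := by
    rw [← hA y y.2 hy1, mem_centralizer_singleton_iff]
    exact (hzc _ hyS).symm
  refine ⟨S, fun s hs => ?_, hSne⟩
  rw [← hA _ hzA hz1, mem_centralizer_singleton_iff]
  exact hzc s hs

/-- Two such subgroups with non-coprime orders have conjugate nonidentity elements. -/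
theorem exists_conj_of_not_coprime [Finite G] {A B : Subgroup G}
    (hA : ∀ a ∈ A, a ≠ 1 → centralizer ({a} : Set G) = A)
    (hB : ∀ a ∈ B, a ≠ 1 → centralizer ({a} : Set G) = B)
    (h : ¬ (Nat.card A).Coprime (Nat.card B)) :
    ∃ g : G, B = A.map (MulAut.conj g).toMonoidHom := by
  obtain ⟨p, hp, hpA, hpB⟩ := Nat.Prime.not_coprime_iff_dvd.1 h
  have : Fact p.Prime := ⟨hp⟩
  obtain ⟨S, hS, hS1⟩ := exists_sylow_le_of_centralizer_eq hA hpA
  obtain ⟨T, hT, -⟩ := exists_sylow_le_of_centralizer_eq hB hpB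
  obtain ⟨g, rfl⟩ := MulAction.exists_smul_eq G S T
  obtain ⟨⟨z, hzS⟩, hz⟩ := (Subgroup.ne_bot_iff_exists_ne_one).1 hS1
  have hz1 : z ≠ 1 := fun h => hz (Subtype.ext h)
  have hzT : g * z * g⁻¹ ∈ ((g • S : Sylow p G) : Subgroup G) := ⟨z, hzS, rfl⟩
  refine ⟨g, ?_⟩
  rw [← hB _ (hT hzT) (by simpa using hz1), centralizer_singleton_conj, hA z (hS hzS) hz1]

end Cfsg.Agent.L
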